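/-
Ree's inequality through transpositions: a list of transpositions with product one on `n` points
whose pairs join the points into `o` classes has length at least `2 n - 2 o`.
-/
import Mathlib

set_option autoImplicit false

namespace Cfsg.Agent.M23Triples

variable {α : Type*}

/-- Join the classes of `a` and `b`. -/
def mergeSetoid (s : Setoid α) (a b : α) : Setoid α where
  r x y := s x y ∨ ((s x a ∨ s x b) ∧ (s y a ∨ s y b))
  iseqv := by
    refine ⟨fun x => Or.inl (s.refl x), ?_, ?_⟩
    · rintro x y (h | ⟨h1, h2⟩)
      · exact Or.inl (s.symm h)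
      · exact Or.inr ⟨h2, h1⟩
    · rintro x y z (h | ⟨h1, h2⟩) (h' | ⟨h1', h2'⟩)
      · exact Or.inl (s.trans h h')
      · exact Or.inr ⟨h1'.imp (s.trans h) (s.trans h), h2'⟩
      · exact Or.inr ⟨h1, h2.imp (s.trans (s.symm h')) (s.trans (s.symm h'))⟩
      · exact Or.inr ⟨h1, h2'⟩

/-- Number of classes. -/
noncomputable def numCl (s : Setoid α) : ℕ := Nat.card (Quotient s)

theorem le_mergeSetoid (s : Setoid α) (a b : α) : s ≤ mergeSetoid s a b := fun _ _ h => Or.inl h

theorem mergeSetoid_pair (s : Setoid α) (a b : α) : mergeSetoid s a b a b :=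
  Or.inr ⟨Or.inl (s.refl a), Or.inr (s.refl b)⟩

theorem mergeSetoid_le {s t : Setoid α} {a b : α} (h : s ≤ t) (hab : t a b) :
    mergeSetoid s a b ≤ t := by
  rintro x y (hxy | ⟨h1, h2⟩)
  · exact h hxy
  · have hx : t x a := h1.elim (fun e => h e) fun e => t.trans (h e) (t.symm hab)
    have hy : t y a := h2.elim (fun e => h e) fun e => t.trans (h e) (t.symm hab)
    exact t.trans hx (t.symm hy)

theorem numCl_le [Finite α] {s t : Setoid α} (h : s ≤ t) : numCl t ≤ numCl s :=
  Nat.card_le_card_of_surjective (Quotient.map id fun _ _ e => h e) fun q => by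
    induction q using Quotient.inductionOn with | h x => exact ⟨⟦x⟧, rfl⟩

theorem numCl_lt [Finite α] {s t : Setoid α} (h : s ≤ t) {a b : α} (ht : t a b) (hs : ¬ s a b) :
    numCl t < numCl s := by
  refine lt_of_le_of_ne (numCl_le h) fun e => hs ?_
  have hsur : Function.Surjective (Quotient.map id fun _ _ e => h e : Quotient s → Quotient t) :=
    fun q => by induction q using Quotient.inductionOn with | h x => exact ⟨⟦x⟧, rfl⟩
  have hbij := (Nat.bijective_iff_surjective_and_card _).mpr ⟨hsur, e.symm⟩
  exact Quotient.exact (hbij.injective (Quotient.sound ht : (⟦a⟧ : Quotient t) = ⟦b⟧))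

theorem numCl_le_merge [Finite α] (s : Setoid α) (a b : α) :
    numCl s ≤ numCl (mergeSetoid s a b) + 1 := by
  classical
  let f : Quotient s → Option (Quotient (mergeSetoid s a b)) := fun q =>
    if q = ⟦b⟧ then none else some (Quotient.map id (fun _ _ e => le_mergeSetoid s a b e) q)
  have hf : Function.Injective f := by
    intro p q hpq
    induction p using Quotient.inductionOn with | h x =>
    induction q using Quotient.inductionOn with | h y =>
    simp only [f] at hpq
    split at hpq <;> split at hpq <;> simp_all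
    rename_i hx hy
    rcases Quotient.exact hpq with h | ⟨h1, h2⟩
    · exact Quotient.sound h
    · exact Quotient.sound (s.trans (h1.resolve_right fun e => hx (Quotient.sound e))
        (s.symm (h2.resolve_right fun e => hy (Quotient.sound e))))
  exact (Nat.card_le_card_of_injective f hf).trans_eq Finite.card_option

section swaps

variable [DecidableEq α]

/-- The cycles of a permutation, as classes. -/
abbrev cyc (σ : Equiv.Perm α) : Setoid α := Equiv.Perm.SameCycle.setoid σ

theorem cyc_le [Finite α] {σ : Equiv.Perm α} {t : Setoid α} (h : ∀ x, t x (σ x)) : cyc σ ≤ t := by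
  intro x y hxy
  obtain ⟨i, -, rfl⟩ := Equiv.Perm.SameCycle.exists_pow_eq' hxy
  clear hxy
  induction i with
  | zero => exact t.refl x
  | succ i ih => rw [pow_succ', Equiv.Perm.mul_apply]; exact t.trans ih (h _)

theorem cyc_swap_mul_le [Finite α] (σ : Equiv.Perm α) (a b : α) :
    cyc (Equiv.swap a b * σ) ≤ mergeSetoid (cyc σ) a b := by
  refine cyc_le fun x => ?_
  have h1 : cyc σ x (σ x) := ⟨1, by simp⟩
  rw [Equiv.Perm.mul_apply]
  rcases eq_or_ne (σ x) a with h | h
  · rw [h, Equiv.swap_apply_left]
    exact Or.inr ⟨Or.inl (h ▸ h1), Or.inr ((cyc σ).refl b)⟩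
  rcases eq_or_ne (σ x) b with h' | h'
  · rw [h', Equiv.swap_apply_right]
    exact Or.inr ⟨Or.inr (h' ▸ h1), Or.inl ((cyc σ).refl a)⟩
  · rw [Equiv.swap_apply_of_ne_of_ne h h']
    exact Or.inl h1

theorem cyc_swap_mul_pair [Finite α] (σ : Equiv.Perm α) {a b : α} (hab : ¬ cyc σ a b) :
    cyc (Equiv.swap a b * σ) a b := by
  classical
  have hex : ∃ m, 0 < m ∧ (σ ^ m) a = a :=
    ⟨orderOf σ, orderOf_pos σ, by rw [pow_orderOf_eq_one]; rfl⟩
  set m := Nat.find hex with hm
  obtain ⟨hm0, hma⟩ := Nat.find_spec hex
  have key : ∀ j < m, ((Equiv.swap a b * σ) ^ j) a = (σ ^ j) a := by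
    intro j hj
    induction j with
    | zero => rfl
    | succ j ih =>
        rw [pow_succ', Equiv.Perm.mul_apply, ih (by omega), Equiv.Perm.mul_apply,
          ← Equiv.Perm.mul_apply σ, ← pow_succ']
        refine Equiv.swap_apply_of_ne_of_ne (fun e => ?_) (fun e => hab ⟨((j + 1 : ℕ) : ℤ), ?_⟩)
        · exact Nat.find_min hex hj ⟨by omega, e⟩
        · rw [zpow_natCast]; exact e
  refine ⟨(m : ℤ), ?_⟩
  rw [zpow_natCast]
  obtain ⟨k, hk⟩ : ∃ k, m = k + 1 := ⟨m - 1, by omega⟩
  rw [hk, pow_succ', Equiv.Perm.mul_apply, key k (by omega), Equiv.Perm.mul_apply,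
    ← Equiv.Perm.mul_apply σ, ← pow_succ', ← hk, hma, Equiv.swap_apply_left]

/-- Product of the transpositions given by a list of pairs. -/
def swapProd : List (α × α) → Equiv.Perm α
  | [] => 1
  | p :: l => Equiv.swap p.1 p.2 * swapProd l

/-- Classes joined by a list of pairs. -/
def joined : List (α × α) → Setoid α
  | [] => ⊥
  | p :: l => mergeSetoid (joined l) p.1 p.2

theorem swapProd_append (l l' : List (α × α)) : swapProd (l ++ l') = swapProd l * swapProd l' := by
  induction l with
  | nil => simp [swapProd]
  | cons p l ih => simp [swapProd, ih, mul_assoc]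

theorem joined_mem {l : List (α × α)} {p : α × α} (h : p ∈ l) : joined l p.1 p.2 := by
  induction l with
  | nil => simp at h
  | cons q l ih =>
      rcases List.mem_cons.mp h with rfl | h
      · exact mergeSetoid_pair _ _ _
      · exact le_mergeSetoid _ _ _ (ih h)

theorem swap_rel {t : Setoid α} {a b : α} (h : t a b) (x : α) : t x (Equiv.swap a b x) := by
  rcases eq_or_ne x a with rfl | hxa
  · rw [Equiv.swap_apply_left]; exact h
  rcases eq_or_ne x b with rfl | hxb
  · rw [Equiv.swap_apply_right]; exact t.symm h
  · rw [Equiv.swap_apply_of_ne_of_ne hxa hxb]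

theorem swapProd_rel {t : Setoid α} {l : List (α × α)} (h : ∀ p ∈ l, t p.1 p.2) (x : α) :
    t x (swapProd l x) := by
  induction l with
  | nil => exact t.refl x
  | cons p l ih =>
      exact t.trans (ih fun q hq => h q (List.mem_cons_of_mem _ hq))
        (swap_rel (h p List.mem_cons_self) _)

theorem card_add_numCl_le [Finite α] (l : List (α × α)) :
    Nat.card α + numCl (cyc (swapProd l)) ≤ l.length + 2 * numCl (joined l) := by
  induction l with
  | nil =>
      have h1 : numCl (cyc (1 : Equiv.Perm α)) ≤ Nat.card α :=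
        Nat.card_le_card_of_surjective _ Quotient.mk_surjective
      have h2 : Nat.card α ≤ numCl (⊥ : Setoid α) :=
        Nat.card_le_card_of_injective (fun x => (⟦x⟧ : Quotient (⊥ : Setoid α)))
          fun x y h => Quotient.exact h
      simp only [swapProd, joined, List.length_nil]
      omega
  | cons p l ih =>
      obtain ⟨a, b⟩ := p
      simp only [swapProd, joined, List.length_cons]
      set σ := swapProd l
      have hback : cyc σ ≤ mergeSetoid (cyc (Equiv.swap a b * σ)) a b := by
        simpa [← mul_assoc] using cyc_swap_mul_le (Equiv.swap a b * σ) a b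
      by_cases hab : joined l a b
      · have h1 : numCl (joined l) ≤ numCl (mergeSetoid (joined l) a b) :=
          numCl_le (mergeSetoid_le le_rfl hab)
        have h2 := numCl_le hback
        have h3 := numCl_le_merge (cyc (Equiv.swap a b * σ)) a b
        have h4 : numCl (cyc (Equiv.swap a b * σ)) ≤ numCl (cyc σ) + 1 := by
          have h5 := numCl_le_merge (cyc (Equiv.swap a b * σ)) a b
          have h6 : numCl (mergeSetoid (cyc (Equiv.swap a b * σ)) a b) ≤ numCl (cyc σ) := h2
          omega
        omega
      · have hσ : ¬ cyc σ a b := fun h => hab (cyc_le (swapProd_rel fun q hq => joined_mem hq) h)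
        have h1 := cyc_swap_mul_pair σ hσ
        have h2 : cyc σ ≤ cyc (Equiv.swap a b * σ) := hback.trans (mergeSetoid_le le_rfl h1)
        have h3 := numCl_lt h2 h1 hσ
        have h4 := numCl_le_merge (joined l) a b
        omega

theorem two_mul_card_le [Finite α] (l : List (α × α)) (h : swapProd l = 1) :
    2 * Nat.card α ≤ l.length + 2 * numCl (joined l) := by
  have h1 := card_add_numCl_le l
  have h2 : Nat.card α ≤ numCl (cyc (swapProd l)) := by
    refine Nat.card_le_card_of_injective (fun x => (⟦x⟧ : Quotient (cyc (swapProd l)))) ?_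
    intro x y e
    have := Quotient.exact e
    rw [h] at this
    exact Equiv.Perm.sameCycle_one.mp this
  omega

theorem exists_swapList [Fintype α] (σ : Equiv.Perm α) :
    ∃ l : List (α × α), swapProd l = σ ∧ l.length + σ.cycleType.card ≤ σ.cycleType.sum := by
  induction σ using Equiv.Perm.cycle_induction_on with
  | base_one => exact ⟨[], rfl, by simp⟩
  | base_cycles σ hσ =>
      obtain ⟨x, hx, -⟩ := id hσ
      have h := Equiv.Perm.formPerm_toList σ x
      rw [hσ.cycleOf_eq hx] at h
      have hlen : (σ.toList x).length = σ.support.card := by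
        rw [Equiv.Perm.length_toList, hσ.cycleOf_eq hx]
      have key : ∀ l : List α, swapProd (l.zip l.tail) = l.formPerm := by
        intro l
        induction l with
        | nil => rfl
        | cons u t ih =>
            cases t with
            | nil => rfl
            | cons v t =>
                rw [List.formPerm_cons_cons, ← ih]
                rfl
      refine ⟨(σ.toList x).zip (σ.toList x).tail, (key _).trans h, ?_⟩
      rw [hσ.cycleType]
      have := hσ.two_le_card_support
      simp [List.length_zip, hlen]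
      exact Finset.card_pos.mp (by omega)
  | induction_disjoint σ τ hd _ h1 h2 =>
      obtain ⟨l, hl, hn⟩ := h1
      obtain ⟨l', hl', hn'⟩ := h2
      refine ⟨l ++ l', by rw [swapProd_append, hl, hl'], ?_⟩
      rw [hd.cycleType_mul, Multiset.card_add, Multiset.sum_add, List.length_append]
      omega

/-- A permutation of prime order `p` moving at most `M` points is a product of few transpositions. -/
theorem exists_swapList_prime [Fintype α] (σ : Equiv.Perm α) {p M : ℕ} (hp : p.Prime)
    (ho : orderOf σ = p) (hM : σ.support.card ≤ M) :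
    ∃ l : List (α × α), swapProd l = σ ∧ l.length * p ≤ M * (p - 1) := by
  obtain ⟨k, hk⟩ := Equiv.Perm.cycleType_prime_order (ho ▸ hp : (orderOf σ).Prime)
  obtain ⟨l, hl, hn⟩ := exists_swapList σ
  refine ⟨l, hl, ?_⟩
  rw [← Equiv.Perm.sum_cycleType, hk, Multiset.sum_replicate, ho, smul_eq_mul] at hM
  rw [hk, Multiset.sum_replicate, Multiset.card_replicate, ho, smul_eq_mul] at hn
  obtain ⟨d, rfl⟩ : ∃ d, p = d + 1 := ⟨p - 1, by have := hp.pos; omega⟩
  have h3 : l.length ≤ (k + 1) * d := by nlinarith [hn]
  calc l.length * (d + 1) ≤ (k + 1) * d * (d + 1) := Nat.mul_le_mul_right _ h3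
    _ = (k + 1) * (d + 1) * d := by ring
    _ ≤ M * d := Nat.mul_le_mul_right _ hM
    _ = M * (d + 1 - 1) := by rw [Nat.add_sub_cancel]

/-- Three permutations with product one. -/
theorem triple_bound [Finite α] {x y z : Equiv.Perm α} (h : x * y * z = 1)
    {lx ly lz : List (α × α)} (hx : swapProd lx = x) (hy : swapProd ly = y) (hz : swapProd lz = z)
    {i j : α} (htr : ∀ p : α, p ≠ i → ∃ g ∈ Subgroup.closure ({x, y} : Set (Equiv.Perm α)), g j = p) :
    2 * Nat.card α ≤ lx.length + ly.length + lz.length + 4 := by
  set l := lx ++ ly ++ lz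
  have h1 := two_mul_card_le l (by rw [← h, swapProd_append, swapProd_append, hx, hy, hz])
  set t := joined l
  let K : Subgroup (Equiv.Perm α) :=
    { carrier := {g | ∀ p, t p (g p)}
      one_mem' := fun p => t.refl p
      mul_mem' := fun {g g'} hg hg' p => t.trans (hg' p) (hg (g' p))
      inv_mem' := fun {g} hg p => t.symm (by simpa using hg (g⁻¹ p)) }
  have hK : Subgroup.closure ({x, y} : Set (Equiv.Perm α)) ≤ K := by
    rw [Subgroup.closure_le]
    rintro w (rfl | rfl)
    · exact fun p => hx ▸ swapProd_rel (fun q hq => joined_mem (by simp [l, hq])) p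
    · exact fun p => hy ▸ swapProd_rel (fun q hq => joined_mem (by simp [l, hq])) p
  have h2 : numCl t ≤ 2 := by
    refine (Nat.card_le_card_of_surjective (fun b : Bool => (⟦cond b i j⟧ : Quotient t)) ?_).trans
      (by simp)
    intro q
    induction q using Quotient.inductionOn with | h p =>
    by_cases hp : p = i
    · exact ⟨true, by rw [hp]; rfl⟩
    · obtain ⟨g, hg, rfl⟩ := htr p hp
      exact ⟨false, Quotient.sound (hK hg j)⟩
  have : l.length = lx.length + ly.length + lz.length := by simp [l, add_assoc]
  omega

end swaps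

end Cfsg.Agent.M23Triples
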