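/-
M23: the checked witnesses of `Data`, the moved-point bounds for elements of order 2 and 3, and
transitivity on the 23 points.
-/
import Cfsg.Agent.M23Triples.Data
import Cfsg.Agent.M23Triples.Count

set_option autoImplicit false

namespace Cfsg.Agent.M23Triples

open Cfsg Compute

/-- Membership test for M23. -/
noncomputable def inM23B (c : ℕ) : Bool :=
  rep24.okb c && Nat.beq (rep24.sift m24aChain.tail c) rep24.one

theorem of_inM23B {c : ℕ} (h : inM23B c = true) : rep24.Ok c ∧ rep24.den c ∈ Spor.M23 := by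
  rw [inM23B, Bool.and_eq_true, Nat.beq_eq] at h
  have hc := rep24.okb_sound _ h.1
  exact ⟨hc, m23_eq ▸ rep24.mem_of_sift _ (Rep.checkChain_tail m24a_check) hc h.2⟩

/-- An element of the given prime order. -/
noncomputable def ordB (c p i : ℕ) : Bool :=
  inM23B c && Nat.beq (rep24.powCode c p) rep24.one && Nat.blt i 24 && !Nat.beq (rep24.act c i) i

theorem of_ordB {c p i : ℕ} (hp : p.Prime) (h : ordB c p i = true) :
    rep24.Ok c ∧ rep24.den c ∈ Spor.M23 ∧ orderOf (rep24.den c) = p := by
  simp only [ordB, Bool.and_eq_true, Bool.not_eq_true', Nat.blt_eq] at h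
  obtain ⟨⟨⟨h1, h2⟩, h3⟩, h4⟩ := h
  refine ⟨(of_inM23B h1).1, (of_inM23B h1).2, Rep.orderOf_eq_prime ?_ hp h2 h3 ?_⟩
  · rw [inM23B, Bool.and_eq_true] at h1; exact h1.1
  · intro e
    rw [e] at h4
    exact absurd h4 (by rw [Bool.eq_false_iff]; exact fun k => k (Nat.beq_eq ▸ rfl))

/-- A full witness with the given targets of its program. -/
noncomputable def tripB (targets : List ℕ) (t : Trip) : Bool :=
  ordB t.x t.p t.i && ordB t.y t.q t.j && ordB t.z t.r t.k &&
    Nat.beq (rep24.mul t.x (rep24.mul t.y t.z)) rep24.one && rep24.slpCheck t.slp [t.x, t.y] targets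

theorem base_check : rep24.slpCheck trip0.slp [baseX, baseY] (topGens m24aChain.tail) = true ∧
    trip0.x = baseX ∧ trip0.y = baseY := by
  decide +kernel

theorem trips_check : tripB (topGens m24aChain.tail) trip0 = true ∧
    trips.tail.all (tripB [baseX, baseY]) = true := by
  decide +kernel

theorem m23_le_of_top {H : Subgroup (Equiv.Perm GolayPt)}
    (h : ∀ g ∈ topGens m24aChain.tail, rep24.den g ∈ H) : Spor.M23 ≤ H := by
  rw [m23_eq, Rep.chainGroup, Rep.span, Subgroup.closure_le]
  rintro _ ⟨g, hg, rfl⟩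
  exact h g hg

theorem base_mem {H : Subgroup (Equiv.Perm GolayPt)} (hx : rep24.den baseX ∈ H)
    (hy : rep24.den baseY ∈ H) : Spor.M23 ≤ H := by
  refine m23_le_of_top fun g hg => ?_
  have h0 := trips_check.1
  simp only [tripB, Bool.and_eq_true] at h0
  obtain ⟨⟨⟨⟨h1, h2⟩, -⟩, -⟩, -⟩ := h0
  simp only [ordB, Bool.and_eq_true] at h1 h2
  have ox := (of_inM23B h1.1.1.1).1
  have oy := (of_inM23B h2.1.1.1).1
  rw [base_check.2.1] at ox
  rw [base_check.2.2] at oy
  refine (rep24.slp_sound _ _ _ H ?_ base_check.1 g hg).2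
  intro c hc
  rcases List.mem_pair.mp hc with rfl | rfl
  · exact ⟨ox, hx⟩
  · exact ⟨oy, hy⟩

theorem exists_of_trip {t : Trip} (ht : t ∈ trips) (hp : t.p.Prime) (hq : t.q.Prime)
    (hr : t.r.Prime) : ∃ x y z : Spor.M23, orderOf x = t.p ∧ orderOf y = t.q ∧ orderOf z = t.r ∧
      x * y * z = 1 ∧ Subgroup.closure {x, y} = ⊤ := by
  obtain ⟨targets, htar, hB⟩ : ∃ targets, (∀ H : Subgroup (Equiv.Perm GolayPt),
      (∀ g ∈ targets, rep24.den g ∈ H) → Spor.M23 ≤ H) ∧ tripB targets t = true := by
    rcases List.mem_cons.mp (show t ∈ trip0 :: trips.tail from ht) with rfl | ht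
    · exact ⟨_, fun H h => m23_le_of_top h, trips_check.1⟩
    · refine ⟨_, fun H h => base_mem (h _ ?_) (h _ ?_), List.all_eq_true.mp trips_check.2 t ht⟩
      · exact List.mem_cons_self
      · exact List.mem_cons_of_mem _ List.mem_cons_self
  simp only [tripB, Bool.and_eq_true, Nat.beq_eq] at hB
  obtain ⟨⟨⟨⟨hx, hy⟩, hz⟩, hmul⟩, hslp⟩ := hB
  obtain ⟨okx, mx, ordx⟩ := of_ordB hp hx
  obtain ⟨oky, my, ordy⟩ := of_ordB hq hy
  obtain ⟨okz, mz, ordz⟩ := of_ordB hr hz
  refine ⟨⟨_, mx⟩, ⟨_, my⟩, ⟨_, mz⟩, ?_, ?_, ?_, ?_, ?_⟩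
  · rw [← Subgroup.orderOf_coe]; exact ordx
  · rw [← Subgroup.orderOf_coe]; exact ordy
  · rw [← Subgroup.orderOf_coe]; exact ordz
  · ext1
    have h := congrArg rep24.den hmul
    rw [rep24.den_mul _ _ okx (rep24.ok_mul _ _ oky okz), rep24.den_mul _ _ oky okz,
      rep24.den_one, ← mul_assoc] at h
    exact h
  · rw [eq_top_iff]
    intro g _
    set K := (Subgroup.closure {(⟨_, mx⟩ : Spor.M23), ⟨_, my⟩}).map Spor.M23.subtype
    have hle : Spor.M23 ≤ K := by
      refine htar K fun c hc => (rep24.slp_sound _ _ _ K ?_ hslp c hc).2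
      intro e he
      rcases List.mem_pair.mp he with rfl | rfl
      · exact ⟨okx, Subgroup.mem_map.mpr ⟨⟨_, mx⟩, Subgroup.subset_closure (Or.inl rfl), rfl⟩⟩
      · exact ⟨oky, Subgroup.mem_map.mpr ⟨⟨_, my⟩, Subgroup.subset_closure (Or.inr rfl), rfl⟩⟩
    obtain ⟨g', hg', e⟩ := Subgroup.mem_map.mp (hle g.2)
    rwa [← Subtype.ext (a1 := g') (a2 := g) e]

/-- The list of images. -/
noncomputable def actList (c : ℕ) : List ℕ := (List.range 24).map (rep24.act c)

/-- The certificate of a Sylow subgroup given by generators and all elements, each element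
fixing at least `f` of the points unless it is the identity. -/
noncomputable def sylB (gens elems : List ℕ) (steps : List SlpStep) (p f : ℕ) : Bool :=
  gens.all inM23B && elems.all rep24.okb && memB rep24.one elems &&
    rep24.slpCheck steps (rep24.one :: gens) elems &&
    gens.all (fun g => elems.all fun c => memB (rep24.mul g c) elems) &&
    elems.all (fun c => Nat.beq c rep24.one || !decide (actList (rep24.powCode c p) = actList rep24.one) ||
      Nat.ble f ((List.range 24).filter fun i => Nat.beq (rep24.act c i) i).length)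

theorem two_check : sylB twoGens twoElems twoSlp 2 8 = true ∧ (twoElems.map actList).Nodup ∧
    twoElems.length = 128 := by
  decide +kernel

theorem three_check : sylB threeGens threeElems threeSlp 3 6 = true ∧ (threeElems.map actList).Nodup ∧
    threeElems.length = 9 := by
  decide +kernel

theorem actList_eq {a b : ℕ} (ha : rep24.Ok a) (hb : rep24.Ok b)
    (h : rep24.den a = rep24.den b) : actList a = actList b := by
  refine List.map_congr_left fun i hi => ?_
  rw [List.mem_range] at hi
  have h1 := rep24.act_spec a i ha hi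
  have h2 := rep24.act_spec b i hb hi
  rw [h] at h1
  exact rep24.pt_inj _ _ (rep24.act_lt _ _ ha hi)
    (rep24.act_lt _ _ hb hi) (h1.symm.trans h2)

theorem support_bound {p n f : ℕ} [Fact p.Prime] {gens elems : List ℕ} {steps : List SlpStep}
    (h : sylB gens elems steps p f = true) (hnd : (elems.map actList).Nodup)
    (hlen : elems.length = p ^ (10200960 : ℕ).factorization p) (hn : p ^ n = elems.length)
    {x : Equiv.Perm GolayPt} (hx : x ∈ Spor.M23) (ho : orderOf x = p) :
    x.support.card + f ≤ 24 := by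
  classical
  simp only [sylB, Bool.and_eq_true] at h
  obtain ⟨⟨⟨⟨⟨hg, hok⟩, hone⟩, hslp⟩, hcl⟩, hfix⟩ := h
  rw [List.all_eq_true] at hg hok hcl hfix
  rw [memB_eq_true] at hone
  set S : Set (Equiv.Perm GolayPt) := rep24.den '' {c | c ∈ elems}
  have hsub : ((rep24.span gens : Subgroup _) : Set (Equiv.Perm GolayPt)) ⊆ S := by
    intro g hg'
    have hclo : ∀ a ∈ rep24.den '' {g | g ∈ gens}, ∀ b ∈ S, a * b ∈ S := by
      rintro _ ⟨a, ha, rfl⟩ _ ⟨b, hb, rfl⟩
      exact ⟨rep24.mul a b, memB_eq_true.mp (List.all_eq_true.mp (hcl a ha) b hb),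
        rep24.den_mul _ _ (of_inM23B (hg a ha)).1 (rep24.okb_sound _ (hok b hb))⟩
    have h1 : (1 : Equiv.Perm GolayPt) ∈ S := ⟨_, hone, rep24.den_one⟩
    have hm : (g : Equiv.Perm GolayPt) ∈ Submonoid.closure (rep24.den '' {g | g ∈ gens}) := by
      rw [SetLike.mem_coe, ← Subgroup.mem_toSubmonoid, Rep.span,
        Subgroup.closure_toSubmonoid_of_finite] at hg'
      exact hg'
    induction hm using Submonoid.closure_induction_left with
    | one => exact h1
    | mul_left a ha b hb ih =>
        refine hclo a ha b (ih ?_)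
        change b ∈ Subgroup.closure _
        rw [← Subgroup.mem_toSubmonoid, Subgroup.closure_toSubmonoid_of_finite]
        exact hb
  have hsup : S ⊆ rep24.span gens := by
    rintro _ ⟨c, hc, rfl⟩
    refine (rep24.slp_sound _ _ _ _ ?_ hslp c hc).2
    intro e he
    rcases List.mem_cons.mp he with rfl | he
    · exact ⟨rep24.ok_one, rep24.den_one ▸ one_mem _⟩
    · exact ⟨(of_inM23B (hg e he)).1, rep24.den_mem_span he⟩
  have hPle : rep24.span gens ≤ Spor.M23 := by
    rw [Rep.span, Subgroup.closure_le]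
    rintro _ ⟨c, hc, rfl⟩
    exact (of_inM23B (hg c hc)).2
  have hcard : Nat.card (rep24.span gens) = elems.length := by
    rw [← SetLike.coe_sort_coe, Set.Subset.antisymm hsub hsup, Nat.card_coe_set_eq]
    have e : S = ((elems.map rep24.den).toFinset : Set (Equiv.Perm GolayPt)) := by
      ext g; simp [S]
    rw [e, Set.ncard_coe_finset, List.toFinset_card_of_nodup, List.length_map]
    exact (List.Nodup.of_map _ hnd).map_on fun a ha b hb e =>
      List.inj_on_of_nodup_map hnd ha hb (actList_eq (rep24.okb_sound _ (hok a ha)) (rep24.okb_sound _ (hok b hb)) e)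
  let P : Sylow p Spor.M23 := Sylow.ofCard ((rep24.span gens).subgroupOf Spor.M23) (by
    rw [Nat.card_congr (Subgroup.subgroupOfEquivOfLe hPle).toEquiv, hcard, card_m23, hlen])
  have hxp : IsPGroup p (Subgroup.zpowers (⟨x, hx⟩ : Spor.M23)) :=
    IsPGroup.of_card (n := 1) (by rw [Nat.card_zpowers, pow_one, ← Subgroup.orderOf_coe]; exact ho)
  obtain ⟨Q, hQ⟩ := hxp.exists_le_sylow
  obtain ⟨g, hgQ⟩ := MulAction.exists_smul_eq Spor.M23 Q P
  have hmem : g * ⟨x, hx⟩ * g⁻¹ ∈ (P : Subgroup Spor.M23) := by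
    rw [← hgQ]
    exact Subgroup.smul_mem_pointwise_smul _ (MulAut.conj g) _ (hQ (Subgroup.mem_zpowers _))
  obtain ⟨c, hc, hce⟩ := hsub hmem
  have hsc : (rep24.den c).support.card = x.support.card := by
    rw [hce]
    simp [Equiv.Perm.card_support_conj]
  have hne : c ≠ rep24.one := by
    intro e
    rw [e, rep24.den_one, Equiv.Perm.support_one, Finset.card_empty] at hsc
    have : x = 1 := Equiv.Perm.card_support_eq_zero.mp hsc.symm
    rw [this, orderOf_one] at ho
    exact (Fact.out : p.Prime).ne_one ho.symm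
  have hf := hfix c hc
  rw [Bool.or_eq_true, Bool.or_eq_true, Bool.not_eq_true', Nat.beq_eq, Nat.ble_eq] at hf
  have hpw : actList (rep24.powCode c p) = actList rep24.one := by
    have hpc := rep24.powCode_spec (rep24.okb_sound _ (hok c hc)) p
    refine actList_eq hpc.1 rep24.ok_one ?_
    rw [hpc.2, rep24.den_one, hce]
    have hx1 : x ^ p = 1 := ho ▸ pow_orderOf_eq_one x
    simp [conj_pow, hx1]
  rw [decide_eq_false_iff_not] at hf
  have hf' := hf.resolve_left (fun h => h.elim hne fun h => h hpw)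
  rw [← hsc]
  set F := ((List.range 24).filter fun i => Nat.beq (rep24.act c i) i).toFinset
  have hF : F.image rep24.pt ⊆ Finset.univ \ (rep24.den c).support := by
    intro q hq
    obtain ⟨i, hi, rfl⟩ := Finset.mem_image.mp hq
    simp only [F, List.mem_toFinset, List.mem_filter, List.mem_range, Nat.beq_eq] at hi
    have := rep24.act_spec c i (rep24.okb_sound _ (hok c hc)) hi.1
    rw [hi.2] at this
    simpa using this
  have hinj : Set.InjOn rep24.pt F := fun i hi j hj => by
    simp only [F, Finset.mem_coe, List.mem_toFinset, List.mem_filter, List.mem_range] at hi hj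
    exact rep24.pt_inj i j hi.1 hj.1
  have h3 := Finset.card_le_card hF
  rw [Finset.card_image_of_injOn hinj, Finset.card_univ_sdiff,
    List.toFinset_card_of_nodup (List.nodup_range.filter _)] at h3
  have h4 : Fintype.card GolayPt = 24 := by decide
  have h5 := Finset.card_le_univ (rep24.den c).support
  omega

theorem trans_check : allBelow 23 (fun i => (List.range 23).any fun j =>
    Nat.beq (rep24.act (rep24.entry m24aL1 j).u 0) i) = true ∧ m24aL1.base = 0 := by
  decide +kernel

theorem transitive {p : GolayPt} (hp : p ≠ none) :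
    ∃ g ∈ Spor.M23, g (rep24.pt 0) = p := by
  have hi : ptIdx p < 23 := by
    have h1 := ptIdx_lt p
    rcases Nat.lt_succ_iff_lt_or_eq.mp h1 with h | h
    · exact h
    · exact absurd (by rw [← rep24_pt_ptIdx p, h, rep24_pt23]) hp
  have h := allBelow_eq_true.mp trans_check.1 _ hi
  obtain ⟨j, hj, e⟩ := List.any_eq_true.mp h
  rw [Nat.beq_eq] at e
  have hc := Rep.checkChain_tail m24a_check
  have hL : rep24.LevelOK m24aL1 m24aChain.tail.tail := by
    refine rep24.levelOK_of_check ?_
    have hc' : rep24.checkChain (m24aL1 :: m24aChain.tail.tail) = true := hc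
    rw [Rep.checkChain_cons, Bool.and_eq_true] at hc'
    exact hc'.1
  refine ⟨rep24.den (rep24.entry m24aL1 j).u, ?_, ?_⟩
  · rw [m23_eq]; exact hL.entry_mem j
  · have := rep24.act_spec _ 0 (hL.entry_all j).1 (show 0 < 24 by norm_num)
    rw [e] at this
    exact this.trans (rep24_pt_ptIdx p)

end Cfsg.Agent.M23Triples
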